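import Mathlib
import Cfsg.Agent.H645.FT.Height
import Cfsg.Agent.H645.FT.NQuot
import Cfsg.Agent.H639.FTA
import Cfsg.Agent.H658.Domin
import Cfsg.Agent.S4677
import Cfsg.Agent.H649.DefectPair
import Cfsg.Agent.H644.Maximal
import Cfsg.Agent.H617.SmallRank

/-!
# Ranks of blocks of groups with a central element
-/

set_option autoImplicit false

open Cfsg Cfsg.FusionSystem

namespace Cfsg.Agent.H645.FT

open Cfsg.Agent.H644.CentralQuot
open Cfsg.Agent.H617.FusTwo (Z mem_Z)

/-- Elements of the join of two commuting cyclic groups, the second of order at most two. -/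
theorem mem_sup_gen {Ω : Type*} [Group Ω] [Finite Ω] {x e : Ω} (hc : x * e = e * x)
    (hee : e * e = 1) {v : Ω} (hv : v ∈ Subgroup.zpowers x ⊔ Subgroup.zpowers e) :
    ∃ i : ℕ, v = x ^ i ∨ v = x ^ i * e := by
  have hcz : ∀ k : ℤ, e * x ^ k = x ^ k * e := fun k =>
    ((Commute.zpow_left (show Commute x e from hc) k).eq).symm
  have he : e⁻¹ = e := inv_eq_of_mul_eq_one_left hee
  let K : Subgroup Ω :=
    { carrier := {v | ∃ k : ℤ, v = x ^ k ∨ v = x ^ k * e}
      one_mem' := ⟨0, Or.inl (zpow_zero x).symm⟩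
      mul_mem' := by
        rintro _ _ ⟨k, rfl | rfl⟩ ⟨l, rfl | rfl⟩
        · exact ⟨k + l, Or.inl (zpow_add x k l).symm⟩
        · exact ⟨k + l, Or.inr (by rw [zpow_add]; group)⟩
        · refine ⟨k + l, Or.inr ?_⟩
          rw [mul_assoc, hcz, zpow_add]; group
        · refine ⟨k + l, Or.inl ?_⟩
          calc x ^ k * e * (x ^ l * e) = x ^ k * (e * x ^ l) * e := by group
            _ = x ^ k * (x ^ l * e) * e := by rw [hcz]
            _ = x ^ k * x ^ l * (e * e) := by group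
            _ = _ := by rw [hee, mul_one, zpow_add]
      inv_mem' := by
        rintro _ ⟨k, rfl | rfl⟩
        · exact ⟨-k, Or.inl (zpow_neg x k).symm⟩
        · refine ⟨-k, Or.inr ?_⟩
          rw [mul_inv_rev, he, ← zpow_neg, hcz] }
  have hle : Subgroup.zpowers x ⊔ Subgroup.zpowers e ≤ K := by
    rw [sup_le_iff, Subgroup.zpowers_le, Subgroup.zpowers_le]
    exact ⟨⟨1, Or.inl (zpow_one x).symm⟩, ⟨0, Or.inr (by rw [zpow_zero, one_mul])⟩⟩
  obtain ⟨k, hk⟩ := hle hv
  have h1 : x ^ k ∈ Subgroup.zpowers x := Subgroup.zpow_mem _ (Subgroup.mem_zpowers x) k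
  rw [← mem_powers_iff_mem_zpowers] at h1
  obtain ⟨i, hi⟩ := h1
  have hi' : x ^ i = x ^ k := hi
  exact ⟨i, by rw [hi']; exact hk⟩

universe u
variable {H : Type u} [Group H] [Finite H] {M : Ideal AlgInt} {b : Set (IrrCharacter H)}
  {P : Subgroup H}

omit [Finite H] in
theorem zpowers_le_center {z : H} (hz : z ∈ Subgroup.center H) :
    Subgroup.zpowers z ≤ Subgroup.center H := Subgroup.zpowers_le.2 hz

omit [Finite H] in
theorem normal_zpowers {z : H} (hz : z ∈ Subgroup.center H) : (Subgroup.zpowers z).Normal :=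
  ⟨fun n hn g => by
    have h1 := Subgroup.mem_center_iff.1 (zpowers_le_center hz hn) g
    rw [h1, mul_inv_cancel_right]
    exact hn⟩

/-- First case: `P / ⟨z⟩` has a cyclic subgroup of index at most two. -/
theorem rank_le_three_of_cyclic (hM : IsPModular 2 M) (hb : IsPBlock M b)
    (hP : IsDefectGroup 2 M b P) {z x : H} (hz : z ∈ Subgroup.center H)
    (hz2 : IsPGroup 2 (Subgroup.zpowers z)) (hx : x ∈ P)
    (hidx : (Subgroup.zpowers x ⊔ Subgroup.zpowers z).relIndex P ≤ 2) : blockRank 2 b ≤ 3 := by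
  have hp : Fact (Nat.Prime 2) := ⟨Nat.prime_two⟩
  have := Fintype.ofFinite H
  have hn := normal_zpowers hz
  obtain ⟨hUP, hT⟩ := Cfsg.Agent.H658.isDefectGroup_defl hM (zpowers_le_center hz) hz2 hb hP
  have hT' : IsPBlock M (defl (Subgroup.zpowers z) b) :=
    isPBlock_defl hM (zpowers_le_center hz) hz2 hb
  rw [← blockRank_defl hM (zpowers_le_center hz) hz2 hb]
  refine Cfsg.Agent.H639.FTA.rank_le_three hM hT' hT
    ((Subgroup.zpowers x).map (QuotientGroup.mk' (Subgroup.zpowers z)))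
    (Subgroup.map_mono (Subgroup.zpowers_le.2 hx)) ?_ ?_
  · rw [MonoidHom.map_zpowers]
    infer_instance
  · rw [Subgroup.relIndex_map_map, QuotientGroup.ker_mk', sup_eq_left.2 hUP]
    exact hidx

/-- Second case: `|P / ⟨z⟩| ≤ 4`. -/
theorem rank_le_three_of_small (hM : IsPModular 2 M) (hb : IsPBlock M b)
    (hP : IsDefectGroup 2 M b P) {z : H} (hz : z ∈ Subgroup.center H)
    (hz2 : IsPGroup 2 (Subgroup.zpowers z)) 
    (hidx : (Subgroup.zpowers z).relIndex P ≤ 4) : blockRank 2 b ≤ 3 := by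
  have hp : Fact (Nat.Prime 2) := ⟨Nat.prime_two⟩
  have := Fintype.ofFinite H
  have hn := normal_zpowers hz
  obtain ⟨hUP, hT⟩ := Cfsg.Agent.H658.isDefectGroup_defl hM (zpowers_le_center hz) hz2 hb hP
  have hT' : IsPBlock M (defl (Subgroup.zpowers z) b) :=
    isPBlock_defl hM (zpowers_le_center hz) hz2 hb
  rw [← blockRank_defl hM (zpowers_le_center hz) hz2 hb]
  refine Cfsg.Agent.H617.SmallRank.blockRank_le_three hM hT' ?_
  have h1 := Cfsg.Agent.S0908.result 2 M hM _ hT' _ hT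
  have h2 : Nat.card (P.map (QuotientGroup.mk' (Subgroup.zpowers z))) ≤ 2 ^ 2 := by
    have h3 := Subgroup.relIndex_map_map (QuotientGroup.mk' (Subgroup.zpowers z)) ⊥ P
    rw [Subgroup.map_bot, Subgroup.relIndex_bot_left, QuotientGroup.ker_mk', bot_sup_eq,
      sup_eq_left.2 hUP] at h3
    rw [h3]
    exact hidx
  rw [h1] at h2
  exact (Nat.pow_le_pow_iff_right (by norm_num)).1 h2

/-- Third case. -/
theorem rank_le_three_of_config (hM : IsPModular 2 M) (hb : IsPBlock M b)
    (hP : IsDefectGroup 2 M b P) {z c e : H} (hz : z ∈ Subgroup.center H) (hz1 : z ≠ 1)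
    (hzz : z * z = 1) (hcP : c ∈ P) (hzc : z ∈ Subgroup.zpowers c) (hoc : 8 ≤ orderOf c)
    (hidx : (Subgroup.zpowers c).relIndex P = 4) (heP : e ∈ P) (hec : e ∉ Subgroup.zpowers c)
    (hee : e * e = 1) (hnorm : ∀ g ∈ P, g * e * g⁻¹ = e ∨ g * e * g⁻¹ = z * e)
    (hnab : ∃ g ∈ P, ∃ h ∈ P, g * h * g⁻¹ * h⁻¹ ∉ Subgroup.zpowers z) : blockRank 2 b ≤ 3 := by
  have hp : Fact (Nat.Prime 2) := ⟨Nat.prime_two⟩
  have := Fintype.ofFinite H
  have hn := normal_zpowers hz
  have hz2 : IsPGroup 2 (Subgroup.zpowers z) := by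
    refine IsPGroup.of_card (n := 1) ?_
    rw [Nat.card_zpowers, pow_one]
    exact orderOf_eq_prime (by rw [pow_two, hzz]) hz1
  obtain ⟨hUP, hT⟩ := Cfsg.Agent.H658.isDefectGroup_defl hM (zpowers_le_center hz) hz2 hb hP
  have hT' : IsPBlock M (defl (Subgroup.zpowers z) b) :=
    isPBlock_defl hM (zpowers_le_center hz) hz2 hb
  rw [← blockRank_defl hM (zpowers_le_center hz) hz2 hb]
  obtain ⟨T, hTd⟩ : ∃ T, T = P.map (QuotientGroup.mk' (Subgroup.zpowers z)) := ⟨_, rfl⟩
  rw [← hTd] at hT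
  have hmk : ∀ v : H, QuotientGroup.mk' (Subgroup.zpowers z) v = QuotientGroup.mk v := fun v => rfl
  have hmem : ∀ v ∈ P, (QuotientGroup.mk v : H ⧸ Subgroup.zpowers z) ∈ T := by
    intro v hv
    rw [hTd]
    exact ⟨v, hv, rfl⟩
  have heq : ∀ v w : H, v⁻¹ * w = 1 ∨ v⁻¹ * w = z →
      (QuotientGroup.mk v : H ⧸ Subgroup.zpowers z) = QuotientGroup.mk w := by
    intro v w h
    refine QuotientGroup.eq.2 ?_
    rwa [mem_zpowers_involution hzz]
  have hTp : IsPGroup 2 T := Cfsg.Agent.Blocks.Basic.isPGroup_of_isDefectGroup hT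
  -- `e` becomes central
  have hecen : ∀ s ∈ T, s * (QuotientGroup.mk e : H ⧸ Subgroup.zpowers z) =
      QuotientGroup.mk e * s := by
    intro s hs
    rw [hTd] at hs
    obtain ⟨g, hg, rfl⟩ := hs
    rw [hmk, ← QuotientGroup.mk_mul, ← QuotientGroup.mk_mul]
    apply heq
    have hzcen : ∀ w : H, w * z = z * w := Subgroup.mem_center_iff.1 hz
    rcases hnorm g⁻¹ (P.inv_mem hg) with h1 | h1
    · left
      have h2 : g⁻¹ * e * g⁻¹⁻¹ = e := h1
      have h3 : g⁻¹ * e * g = e := by simpa using h2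
      calc (g * e)⁻¹ * (e * g) = e⁻¹ * (g⁻¹ * e * g) := by group
        _ = 1 := by rw [h3]; group
    · right
      have h3 : g⁻¹ * e * g = z * e := by simpa using h1
      calc (g * e)⁻¹ * (e * g) = e⁻¹ * (g⁻¹ * e * g) := by group
        _ = e⁻¹ * (z * e) := by rw [h3]
        _ = e⁻¹ * (e * z) := by rw [← hzcen e]
        _ = z := by group
  have hxe : (QuotientGroup.mk c : H ⧸ Subgroup.zpowers z) * QuotientGroup.mk e =
      QuotientGroup.mk e * QuotientGroup.mk c := hecen _ (hmem c hcP)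
  have hee' : (QuotientGroup.mk e : H ⧸ Subgroup.zpowers z) * QuotientGroup.mk e = 1 := by
    rw [← QuotientGroup.mk_mul, hee]; rfl
  -- the abelian subgroup
  obtain ⟨A, hAd⟩ : ∃ A, A = Subgroup.zpowers (QuotientGroup.mk c : H ⧸ Subgroup.zpowers z) ⊔
      Subgroup.zpowers (QuotientGroup.mk e) := ⟨_, rfl⟩
  have hgen : ∀ v ∈ A, ∃ i : ℕ, v = (QuotientGroup.mk c : H ⧸ Subgroup.zpowers z) ^ i ∨
      v = (QuotientGroup.mk c : H ⧸ Subgroup.zpowers z) ^ i * QuotientGroup.mk e := by
    intro v hv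
    rw [hAd] at hv
    exact mem_sup_gen hxe hee' hv
  have hAT : A ≤ T := by
    rw [hAd, sup_le_iff, Subgroup.zpowers_le, Subgroup.zpowers_le]
    exact ⟨hmem c hcP, hmem e heP⟩
  have hcomm : ∀ v ∈ A, ∀ w ∈ A, v * w = w * v := by
    intro v hv w hw
    have hxw : (QuotientGroup.mk c : H ⧸ Subgroup.zpowers z) * w = w * QuotientGroup.mk c := by
      obtain ⟨j, rfl | rfl⟩ := hgen w hw
      · exact ((Commute.refl _).pow_right j).eq
      · rw [← mul_assoc, ← pow_succ', mul_assoc, ← hxe, ← mul_assoc, ← pow_succ]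
    have hew := hecen w (hAT hw)
    obtain ⟨i, rfl | rfl⟩ := hgen v hv
    · exact ((Commute.pow_left (show Commute _ w from hxw)) i).eq
    · have h1 := ((Commute.pow_left (show Commute _ w from hxw)) i).eq
      rw [mul_assoc, ← hew, ← mul_assoc, h1, mul_assoc]
  -- `T` is not abelian
  have hnabT : ∃ g ∈ T, ∃ h ∈ T, g * h ≠ h * g := by
    obtain ⟨g, hg, h, hh, hgh⟩ := hnab
    refine ⟨_, hmem g hg, _, hmem h hh, fun h1 => hgh ?_⟩
    have h2 : (QuotientGroup.mk (g * h * g⁻¹ * h⁻¹) : H ⧸ Subgroup.zpowers z) = 1 := by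
      change (QuotientGroup.mk g : H ⧸ Subgroup.zpowers z) * QuotientGroup.mk h *
        (QuotientGroup.mk g)⁻¹ * (QuotientGroup.mk h)⁻¹ = 1
      rw [h1]; group
    exact (QuotientGroup.eq_one_iff _).1 h2
  -- the index of `A`
  obtain ⟨K, hK⟩ : ∃ K, K = Subgroup.zpowers c ⊔ Subgroup.zpowers e := ⟨_, rfl⟩
  have hKP : K ≤ P := by
    rw [hK, sup_le_iff, Subgroup.zpowers_le, Subgroup.zpowers_le]
    exact ⟨hcP, heP⟩
  have hAmap : K.map (QuotientGroup.mk' (Subgroup.zpowers z)) = A := by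
    rw [hK, hAd, Subgroup.map_sup, MonoidHom.map_zpowers, MonoidHom.map_zpowers]
    rfl
  have hUK : Subgroup.zpowers z ≤ K := by
    rw [hK]
    exact (Subgroup.zpowers_le.2 hzc).trans le_sup_left
  have hAidx : A.relIndex T = K.relIndex P := by
    rw [← hAmap, hTd, Subgroup.relIndex_map_map, QuotientGroup.ker_mk', sup_eq_left.2 hUP,
      sup_eq_left.2 hUK]
  have hmul : (Subgroup.zpowers c).relIndex K * K.relIndex P = 4 := by
    rw [← hidx]
    exact Subgroup.relIndex_mul_relIndex _ _ _ (by rw [hK]; exact le_sup_left) hKP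
  have hne1 : (Subgroup.zpowers c).relIndex K ≠ 1 := by
    intro h1
    rw [Subgroup.relIndex_eq_one] at h1
    apply hec
    apply h1
    rw [hK]
    exact Subgroup.mem_sup_right (Subgroup.mem_zpowers e)
  have hAne : A.relIndex T ≠ 1 := by
    intro h1
    rw [Subgroup.relIndex_eq_one] at h1
    obtain ⟨g, hg, h, hh, hgh⟩ := hnabT
    exact hgh (hcomm g (h1 hg) h (h1 hh))
  have hAidx2 : A.relIndex T = 2 := by
    rw [hAidx] at hAne ⊢
    have h1 : K.relIndex P ∣ 4 := ⟨_, by rw [← hmul, mul_comm]⟩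
    have h2 : K.relIndex P ≤ 4 := Nat.le_of_dvd (by norm_num) h1
    have h3 : K.relIndex P ≠ 0 := by
      intro h4
      rw [h4] at h1
      omega
    have h4 : K.relIndex P ≠ 3 := by
      intro h4
      rw [h4] at h1
      omega
    have h5 : K.relIndex P ≠ 4 := by
      intro h5
      rw [h5] at hmul
      omega
    omega
  -- an element outside `A`
  obtain ⟨y, hyT, hyA⟩ : ∃ y ∈ T, y ∉ A := by
    by_contra hcon
    push Not at hcon
    exact hAne (Subgroup.relIndex_eq_one.2 hcon)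
  have hx4 : (QuotientGroup.mk c : H ⧸ Subgroup.zpowers z) * QuotientGroup.mk c ≠ 1 := by
    intro h1
    have h2 : (QuotientGroup.mk (c * c) : H ⧸ Subgroup.zpowers z) = 1 := h1
    have h3 := (QuotientGroup.eq_one_iff _).1 h2
    have h4 : c ^ 4 = 1 := by
      rw [show (4 : ℕ) = 2 * 2 from rfl, pow_mul, pow_two, pow_two]
      rcases (mem_zpowers_involution hzz).1 h3 with h5 | h5
      · rw [h5, mul_one]
      · rw [h5, hzz]
    have h5 := Nat.le_of_dvd (by norm_num) (orderOf_dvd_of_pow_eq_one h4)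
    omega
  have hnc : y * (QuotientGroup.mk c : H ⧸ Subgroup.zpowers z) ≠ QuotientGroup.mk c * y := by
    intro h1
    have hyA' : ∀ v ∈ A, y * v = v * y := by
      intro v hv
      have hew := hecen y hyT
      obtain ⟨i, rfl | rfl⟩ := hgen v hv
      · exact (Commute.pow_right (show Commute y _ from h1) i).eq
      · have h2 := (Commute.pow_right (show Commute y _ from h1) i).eq
        rw [← mul_assoc, h2, mul_assoc, hew, ← mul_assoc]
    have hcen : ∀ g ∈ T, ∃ v ∈ A, g = v ∨ g = y * v := by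
      intro g hg
      by_cases hgA : g ∈ A
      · exact ⟨g, hgA, Or.inl rfl⟩
      · refine ⟨y⁻¹ * g, Cfsg.Agent.H617.FusTwo.inv_mul_mem_of_relIndex_two hAidx2 hyT hg hyA hgA,
          Or.inr (by group)⟩
    obtain ⟨g, hg, h, hh, hgh⟩ := hnabT
    apply hgh
    obtain ⟨v, hv, hgv⟩ := hcen g hg
    obtain ⟨w, hw, hhw⟩ := hcen h hh
    have h2 := hcomm v hv w hw
    have h3 := hyA' v hv
    have h4 := hyA' w hw
    rcases hgv with rfl | rfl <;> rcases hhw with rfl | rfl
    · exact h2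
    · calc g * (y * w) = (g * y) * w := by group
        _ = y * (g * w) := by rw [← h3]; group
        _ = y * w * g := by rw [h2]; group
    · calc y * v * h = y * (v * h) := by group
        _ = (y * h) * v := by rw [h2]; group
        _ = h * (y * v) := by rw [h4]; group
    · calc y * v * (y * w) = y * (v * y) * w := by group
        _ = y * (y * v) * w := by rw [h3]
        _ = y * y * (v * w) := by group
        _ = y * y * (w * v) := by rw [h2]
        _ = y * (y * w) * v := by group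
        _ = y * (w * y) * v := by rw [h4]
        _ = y * w * (y * v) := by group
  have hgrp : Grp T A (QuotientGroup.mk c : H ⧸ Subgroup.zpowers z) (QuotientGroup.mk e) y :=
    { pgrp := hTp
      le := hAT
      idx := hAidx2
      comm := hcomm
      xA := by rw [hAd]; exact Subgroup.mem_sup_left (Subgroup.mem_zpowers _)
      eZ := mem_Z.2 ⟨hmem e heP, hecen⟩
      ee := hee'
      gen := hgen
      x4 := hx4
      yS := hyT
      yA := hyA
      nc := hnc }
  -- the fusion system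
  have hMprime := Cfsg.Agent.Blocks.Local.isPrime_of_isPModular hM
  obtain ⟨f, hf⟩ := Cfsg.Agent.H649.exists_pair_of_isDefectGroup hM hT' hT
  have hmax := Cfsg.Agent.H644.isMaximalBrauerPair_of_isDefectGroup hM hf hT
  obtain ⟨F, hF, hsat⟩ := Cfsg.Agent.S4677.result 2 M hM _ T f hmax
  refine rank_le_three (a := ⟨T, f⟩) hM hmax hF hsat hT hgrp ?_
  intro E hE α hα hodd
  have h1 := (Cfsg.Agent.H802.mem_autGroup_iff F hE α).1 hα
  obtain ⟨-, g, hg, -⟩ := (hF.2 E _).1 h1
  exact nq_of_quot hz hz1 hzz rfl hzc hodd (g := g) (fun v => hg v)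

end Cfsg.Agent.H645.FT
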