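import Mathlib
import Cfsg.Agent.H645.FT.Quot
import Cfsg.Agent.H352.FTRed
import Cfsg.Agent.S4540

/-!
# Blocks with a defect group with a cyclic subgroup of index at most four
-/

set_option autoImplicit false

open Cfsg Cfsg.FusionSystem

namespace Cfsg.Agent.H645.FT

open Cfsg.Agent.H613.SubSys Cfsg.Agent.H613.SubFus

universe u
variable {G : Type u} [Group G] [Finite G] {M : Ideal AlgInt} {B : Set (IrrCharacter G)}
  {D : Subgroup G}

/-- The bound from a major subsection of rank at most three. -/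
theorem card_le_of_center (hM : IsPModular 2 M) (hB : IsPBlock M B)
    (hD : IsDefectGroup 2 M B D) {z : G} (hzD : z ∈ D) (hzc : ∀ d ∈ D, d * z = z * d)
    (hr : ∀ H : Subgroup G, H = Subgroup.centralizer ({z} : Set G) →
      ∀ b : Set (IrrCharacter H), IsPBlock M b → IsDefectGroup 2 M b (D.subgroupOf H) →
        blockRank 2 b ≤ 3) : Nat.card B ≤ Nat.card D := by
  have hp : Fact (Nat.Prime 2) := ⟨Nat.prime_two⟩
  have := Fintype.ofFinite G
  have hMprime := Cfsg.Agent.Blocks.Local.isPrime_of_isPModular hM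
  obtain ⟨f, hf⟩ := Cfsg.Agent.H649.exists_pair_of_isDefectGroup hM hB hD
  have hmax := Cfsg.Agent.H644.isMaximalBrauerPair_of_isDefectGroup hM hf hD
  obtain ⟨F, hF, hsat⟩ := Cfsg.Agent.S4677.result 2 M hM B D f hmax
  set a : BrauerPairIdx G := ⟨D, f⟩ with ha
  have hsub := isSubsec_bel (a := a) hM hmax hzD
  have hfblk : IsPBlock M (bel 2 M a z).2 := isPBlock_bel hM hmax.1.1 hzD
  have hQS : Subgroup.zpowers z ≤ D := Subgroup.zpowers_le.2 hzD
  have hle : D ≤ Subgroup.centralizer ((Subgroup.zpowers z : Subgroup G) : Set G) := by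
    intro g hg
    rw [Cfsg.Agent.H613.SubSys.centralizer_zpowers, Subgroup.mem_centralizer_singleton_iff]
    exact hzc g hg
  have hfc : F.IsFullyCentralized (Subgroup.zpowers z) := by
    refine ⟨hQS, fun R _ => ?_⟩
    have h1 : centralizerIn D (Subgroup.zpowers z) = D := inf_eq_left.2 hle
    rw [h1]
    exact Nat.card_le_card_of_injective _ (Subgroup.inclusion_injective
      (inf_le_left : centralizerIn D R ≤ D))
  have hdef := (Cfsg.Agent.S4678.result 2 M hM B D f hmax F hF (Subgroup.zpowers z)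
    (bel 2 M a z).2 hQS hfblk (bel_snd (a := a) hM hmax.1.1 hzD).2).1 hfc
  rw [inf_eq_left.2 hle] at hdef
  have key : ∀ (H : Subgroup G) (_ : H = Subgroup.centralizer ({z} : Set G))
      (b : Set (IrrCharacter H)), IsInducedBlock M H b B → IsDefectGroup 2 M b (D.subgroupOf H) →
      blockRank 2 b ≤ 3 → Nat.card B ≤ 2 ^ blockDefect 2 B := by
    rintro H rfl b hb hbD hl
    obtain ⟨h1, h2⟩ := Cfsg.Agent.S4540.result M hM B hB D hD z hzD hzc b hb hbD hl
    have h3 := h1.trans h2
    omega
  have hH := Cfsg.Agent.H613.SubSys.centralizer_zpowers z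
  rw [Cfsg.Agent.S0908.result 2 M hM B hB D hD]
  exact key _ hH (bel 2 M a z).2 hsub.ind hdef (hr _ hH _ hfblk hdef)

theorem main (hM : IsPModular 2 M) (hB : IsPBlock M B)
    (hD : IsDefectGroup 2 M B D) (C : Subgroup G) (hCD : C ≤ D) (hcyc : IsCyclic C)
    (hidx : C.relIndex D ≤ 4) : Nat.card B ≤ Nat.card D := by
  have hp : Fact (Nat.Prime 2) := ⟨Nat.prime_two⟩
  have hDp : IsPGroup 2 D := Cfsg.Agent.Blocks.Basic.isPGroup_of_isDefectGroup hD
  -- a generator
  obtain ⟨c, hc⟩ : ∃ c : D, C.subgroupOf D = Subgroup.zpowers c := by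
    obtain ⟨g, hg⟩ := hcyc.exists_generator
    refine ⟨⟨g, hCD g.2⟩, ?_⟩
    ext v
    rw [Subgroup.mem_subgroupOf]
    constructor
    · intro hv
      obtain ⟨k, hk⟩ := Subgroup.mem_zpowers_iff.1 (hg ⟨v, hv⟩)
      refine Subgroup.mem_zpowers_iff.2 ⟨k, Subtype.ext ?_⟩
      have h1 : ((g ^ k : C) : G) = v := congrArg (fun w : C => (w : G)) hk
      rw [← h1]
      rfl
    · intro hv
      obtain ⟨k, rfl⟩ := Subgroup.mem_zpowers_iff.1 hv
      exact C.zpow_mem g.2 k
  have hci : (Subgroup.zpowers c).index ≤ 4 := by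
    rw [← hc]; exact hidx
  -- transport to the centralizer
  have hcz : ∀ z ∈ Subgroup.center D, ∀ d ∈ D, d * (z : G) = z * d := by
    intro z hz d hd
    exact congrArg Subtype.val (Subgroup.mem_center_iff.1 hz ⟨d, hd⟩)
  have hDH : ∀ z ∈ Subgroup.center D, ∀ H : Subgroup G,
      H = Subgroup.centralizer ({(z : G)} : Set G) → D ≤ H := by
    intro z hz H hH g hg
    rw [hH, Subgroup.mem_centralizer_singleton_iff]
    exact hcz z hz g hg
  have hzH : ∀ (z : D) (hz : z ∈ Subgroup.center D) (H : Subgroup G)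
      (hH : H = Subgroup.centralizer ({(z : G)} : Set G)),
      Subgroup.inclusion (hDH z hz H hH) z ∈ Subgroup.center H := by
    intro z hz H hH
    rw [Subgroup.mem_center_iff]
    intro g
    have h1 := g.2
    have h2 : (g : G) ∈ Subgroup.centralizer ({(z : G)} : Set G) := by rw [← hH]; exact h1
    rw [Subgroup.mem_centralizer_singleton_iff] at h2
    exact Subtype.ext h2
  have hrange : ∀ (H : Subgroup G) (hle : D ≤ H),
      (⊤ : Subgroup D).map (Subgroup.inclusion hle) = D.subgroupOf H := by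
    intro H hle
    rw [← MonoidHom.range_eq_map, Subgroup.inclusion_range]
  have hrel : ∀ (H : Subgroup G) (hle : D ≤ H) (K : Subgroup D),
      (K.map (Subgroup.inclusion hle)).relIndex (D.subgroupOf H) = K.index := by
    intro H hle K
    rw [← hrange H hle, Subgroup.relIndex_map_map_of_injective _ _
      (Subgroup.inclusion_injective hle), Subgroup.relIndex_top_right]
  have hpz : ∀ (H : Subgroup G) (hle : D ≤ H) (z : D),
      IsPGroup 2 (Subgroup.zpowers (Subgroup.inclusion hle z)) := by
    intro H hle z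
    have h1 : Subgroup.zpowers (Subgroup.inclusion hle z) =
        (Subgroup.zpowers z).map (Subgroup.inclusion hle) := (MonoidHom.map_zpowers _ _).symm
    rw [h1]
    exact (hDp.to_subgroup _).map _
  rcases Cfsg.Agent.H352.FTRed.cases hDp c hci with ⟨z, hz, x, hx⟩ | ⟨z, hz, hi⟩ |
      ⟨hi, hoc, hcen, z, hz, hz1, hzz, ⟨e, hec, hee, hnorm⟩, g, h, hgh⟩
  · refine card_le_of_center hM hB hD z.2 (hcz z hz) fun H hH b hb hbD => ?_
    have hle := hDH z hz H hH
    refine rank_le_three_of_cyclic hM hb hbD (hzH z hz H hH) (hpz H hle z)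
      (x := Subgroup.inclusion hle x) x.2 ?_
    have h1 : Subgroup.zpowers (Subgroup.inclusion hle x) ⊔
        Subgroup.zpowers (Subgroup.inclusion hle z) =
        (Subgroup.zpowers x ⊔ Subgroup.zpowers z).map (Subgroup.inclusion hle) := by
      rw [Subgroup.map_sup, MonoidHom.map_zpowers, MonoidHom.map_zpowers]
    rw [h1, hrel H hle]
    exact hx
  · refine card_le_of_center hM hB hD z.2 (hcz z hz) fun H hH b hb hbD => ?_
    have hle := hDH z hz H hH
    refine rank_le_three_of_small hM hb hbD (hzH z hz H hH) (hpz H hle z) ?_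
    have h1 : Subgroup.zpowers (Subgroup.inclusion hle z) =
        (Subgroup.zpowers z).map (Subgroup.inclusion hle) := (MonoidHom.map_zpowers _ _).symm
    rw [h1, hrel H hle]
    exact hi
  · refine card_le_of_center hM hB hD z.2 (hcz z hz) fun H hH b hb hbD => ?_
    have hle := hDH z hz H hH
    have hinj := Subgroup.inclusion_injective hle
    have hmz : ∀ v w : D, Subgroup.inclusion hle v ∈ Subgroup.zpowers (Subgroup.inclusion hle w) ↔
        v ∈ Subgroup.zpowers w := by
      intro v w
      rw [← MonoidHom.map_zpowers]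
      exact Subgroup.mem_map_iff_mem hinj
    refine rank_le_three_of_config hM hb hbD (z := Subgroup.inclusion hle z)
      (c := Subgroup.inclusion hle c) (e := Subgroup.inclusion hle e) (hzH z hz H hH) ?_ ?_ c.2
      ((hmz z c).2 (hcen hz)) ?_ ?_ e.2 (fun h1 => hec ((hmz e c).1 h1)) ?_ ?_ ?_
    · intro h1
      exact hz1 (hinj (h1.trans (map_one _).symm))
    · rw [← map_mul, hzz, map_one]
    · rw [orderOf_injective _ hinj]
      exact hoc
    · rw [← MonoidHom.map_zpowers, hrel H hle]
      exact hi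
    · rw [← map_mul, hee, map_one]
    · intro v hv
      have hv' : (v : G) ∈ D := hv
      have h2 : v = Subgroup.inclusion hle ⟨v, hv'⟩ := rfl
      rw [h2, ← map_inv, ← map_mul, ← map_mul, ← map_mul]
      rcases hnorm ⟨v, hv'⟩ with h3 | h3
      · exact Or.inl (congrArg _ h3)
      · exact Or.inr (congrArg _ h3)
    · refine ⟨Subgroup.inclusion hle g, g.2, Subgroup.inclusion hle h, h.2, ?_⟩
      rw [← map_inv, ← map_inv, ← map_mul, ← map_mul, ← map_mul, hmz]
      exact hgh

end Cfsg.Agent.H645.FT
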